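import Cfsg.Agent.Kazarin.Basic
import Cfsg.Agent.Comp.Basic
import Cfsg.Agent.Solvable.Fitting

/-!
Kazarin's theorem and its refinement: conjugates of an element with prime power class size commute
modulo the `p`-core.
-/

set_option autoImplicit false
set_option linter.style.haveILetI false

namespace CfsgLib.Kazarin

universe u

variable {G : Type u} [Group G] [Finite G]

/-- For `N` normal the index of `A` in `N` divides the index of `A`. -/
theorem relIndex_dvd (A N : Subgroup G) [N.Normal] : A.relIndex N ∣ A.index := by
  have h1 : Nat.card ↥(A ⊓ N) * A.relIndex N = Nat.card N := by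
    have h := Subgroup.relIndex_mul_relIndex ⊥ (A ⊓ N) N bot_le inf_le_right
    rw [Subgroup.relIndex_bot_left, Subgroup.relIndex_bot_left, Subgroup.inf_relIndex_right] at h
    exact h
  have h2 := CfsgLib.Solvable.card_sup_mul_card_inf (A := A) (K := N)
    (by rw [Subgroup.normalizer_eq_top]; exact le_top)
  have h3 : Nat.card ↥(A ⊔ N) = Nat.card A * A.relIndex N := by
    apply Nat.eq_of_mul_eq_mul_right (Nat.card_pos (α := ↥(A ⊓ N)))
    rw [h2, mul_assoc, mul_comm (A.relIndex N), h1]
  have h4 := A.card_mul_index
  rw [← (A ⊔ N).card_mul_index, h3, mul_assoc] at h4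
  exact ⟨_, Nat.eq_of_mul_eq_mul_left Nat.card_pos h4⟩

theorem index_map_centralizer {H : Type u} [Group H] [Finite H] (f : G →* H)
    (hf : Function.Surjective f) (x : G) :
    (Subgroup.centralizer ({f x} : Set H)).index ∣ (Subgroup.centralizer ({x} : Set G)).index := by
  refine dvd_trans (Subgroup.index_dvd_of_le ?_) (Subgroup.index_map_dvd _ hf)
  rintro _ ⟨c, hc, rfl⟩
  rw [Subgroup.mem_centralizer_singleton_iff]
  rw [SetLike.mem_coe, Subgroup.mem_centralizer_singleton_iff] at hc
  rw [← map_mul, ← map_mul, hc]

theorem aux {p : ℕ} (hp : p.Prime) (n : ℕ) : ∀ (G : Type u) [Group G] [Finite G], Nat.card G = n →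
    ∀ (x : G) (a : ℕ), (Subgroup.centralizer ({x} : Set G)).index = p ^ a →
      Group.IsSolvable (Subgroup.normalClosure ({x} : Set G)) := by
  induction n using Nat.strong_induction_on with
  | _ n ih =>
    intro G _ _ hn x a hx
    subst hn
    rcases subsingleton_or_nontrivial G with hG | hG
    · infer_instance
    classical
    obtain ⟨N, -, hN⟩ := Finite.exists_le_minimal
      (p := fun K : Subgroup G => K.Normal ∧ K ≠ ⊥) (a := ⊤) ⟨inferInstance, top_ne_bot⟩
    haveI := hN.1.1
    have hmin : ∀ K : Subgroup G, K.Normal → K ≤ N → K = ⊥ ∨ K = N := fun K hK hle =>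
      or_iff_not_imp_left.2 fun h => le_antisymm hle (hN.2 ⟨hK, h⟩ hle)
    set L := Subgroup.normalClosure ({x} : Set G) with hL
    haveI hLn : L.Normal := Subgroup.normalClosure_normal
    let π := QuotientGroup.mk' N
    have hπ : Function.Surjective π := QuotientGroup.mk'_surjective N
    haveI hquot : Group.IsSolvable (L.map π) := by
      obtain ⟨b, -, hb⟩ := (Nat.dvd_prime_pow hp).1 (hx ▸ index_map_centralizer π hπ x)
      have hlt : Nat.card (G ⧸ N) < Nat.card G := by
        rw [N.card_eq_card_quotient_mul_card_subgroup]
        exact lt_mul_of_one_lt_right Nat.card_pos (N.one_lt_card_iff_ne_bot.2 hN.1.2)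
      have := ih _ hlt (G ⧸ N) rfl (π x) b hb
      rwa [hL, Subgroup.map_normalClosure _ _ hπ, Set.image_singleton]
    haveI hker : Group.IsSolvable (N.subgroupOf L) := by
      by_cases hNs : Group.IsSolvable N
      · haveI := hNs
        let f : N.subgroupOf L →* N :=
          { toFun := fun k => ⟨((k : L) : G), k.2⟩, map_one' := rfl, map_mul' := fun _ _ => rfl }
        exact Group.isSolvable_of_isSolvable_injective (f := f) fun a b hab =>
          Subtype.ext (Subtype.ext (congrArg (fun t : N => (t : G)) hab))
      have hcomm : ∀ k ∈ N, x * k = k * x := by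
        set H := N ⊔ Subgroup.zpowers x with hH
        by_cases hHt : H = ⊤
        · exact commute_of_generates N hNs hmin x hHt hp hx
        have hxH : x ∈ H := Subgroup.mem_sup_right (Subgroup.mem_zpowers x)
        have hidx : (Subgroup.centralizer ({(⟨x, hxH⟩ : H)} : Set H)).index ∣ p ^ a := by
          have e : Subgroup.centralizer ({(⟨x, hxH⟩ : H)} : Set H) =
              (Subgroup.centralizer ({x} : Set G)).subgroupOf H := by
            ext y
            rw [Subgroup.mem_subgroupOf, Subgroup.mem_centralizer_singleton_iff,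
              Subgroup.mem_centralizer_singleton_iff]
            exact Subtype.ext_iff
          rw [e]
          set C' := (Subgroup.centralizer ({x} : Set G)).subgroupOf H
          set N' := N.subgroupOf H
          have htop : C' ⊔ N' = ⊤ := by
            apply Subgroup.map_injective H.subtype_injective
            rw [Subgroup.map_sup, ← MonoidHom.range_eq_map, Subgroup.range_subtype,
              Subgroup.subgroupOf_map_subtype,
              Subgroup.subgroupOf_map_subtype, inf_eq_left.2 (le_sup_left : N ≤ H)]
            refine le_antisymm (sup_le inf_le_right le_sup_left) (sup_le le_sup_right ?_)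
            exact Subgroup.zpowers_le.2 (Subgroup.mem_sup_left
              ⟨Subgroup.mem_centralizer_singleton_iff.2 rfl, hxH⟩)
          have h1 := CfsgLib.Solvable.card_sup_mul_card_inf (A := C') (K := N')
            (by rw [Subgroup.normalizer_eq_top]; exact le_top)
          rw [htop, Subgroup.card_top, ← C'.card_mul_index, mul_assoc] at h1
          have h1' := Nat.eq_of_mul_eq_mul_left (Nat.card_pos (α := C')) h1
          have h2 : Nat.card ↥(C' ⊓ N') * C'.relIndex N' = Nat.card N' := by
            have h := Subgroup.relIndex_mul_relIndex ⊥ (C' ⊓ N') N' bot_le inf_le_right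
            rw [Subgroup.relIndex_bot_left, Subgroup.relIndex_bot_left, Subgroup.inf_relIndex_right] at h
            exact h
          have h3 : C'.index = C'.relIndex N' := by
            apply Nat.eq_of_mul_eq_mul_right (Nat.card_pos (α := ↥(C' ⊓ N')))
            rw [h1', ← h2, mul_comm]
          rw [h3, Subgroup.relIndex_subgroupOf (le_sup_left : N ≤ H), ← hx]
          exact relIndex_dvd _ N
        obtain ⟨b, -, hb⟩ := (Nat.dvd_prime_pow hp).1 hidx
        have hlt : Nat.card H < Nat.card G := lt_of_le_of_ne H.card_le_card_group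
          (fun e => hHt (Subgroup.eq_top_of_card_eq H e))
        haveI hLH := ih _ hlt H rfl (⟨x, hxH⟩ : H) b hb
        set LH := Subgroup.normalClosure ({(⟨x, hxH⟩ : H)} : Set H)
        -- its trace on `N` is a solvable normal subgroup of `N`
        let R : Subgroup G := (CfsgLib.Comp.solvRad N).map N.subtype
        have hR : R = ⊥ := by
          have hn : R.Normal := by
            refine ⟨fun r hr g => ?_⟩
            obtain ⟨s, hs, rfl⟩ := hr
            refine ⟨MulAut.conjNormal g s, ?_, rfl⟩
            have := (Subgroup.characteristic_iff_map_le (H := CfsgLib.Comp.solvRad N)).1 inferInstance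
              (MulAut.conjNormal g)
            exact this ⟨s, hs, rfl⟩
          rcases hmin R hn (Subgroup.map_subtype_le _) with h | h
          · exact h
          · exfalso
            apply hNs
            haveI : Group.IsSolvable R := CfsgLib.Comp.isSolvable_map_subtype CfsgLib.Comp.solvRad_isSolvable
            rwa [h] at this
        let J : Subgroup N := LH.comap (Subgroup.inclusion (le_sup_left : N ≤ H))
        haveI : LH.Normal := Subgroup.normalClosure_normal
        have hJ : J ≤ CfsgLib.Comp.solvRad N := by
          refine CfsgLib.Comp.le_solvRad inferInstance ?_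
          exact Group.isSolvable_of_isSolvable_injective
            (f := (Subgroup.inclusion (le_sup_left : N ≤ H)).subgroupComap LH) fun a b hab =>
              Subtype.ext (Subgroup.inclusion_injective _ (congrArg (fun t : LH => (t : H)) hab))
        intro k hk
        have hmem : (⟨x * k * x⁻¹ * k⁻¹, mul_mem (Subgroup.Normal.conj_mem hN.1.1 k hk x) (inv_mem hk)⟩ : N) ∈ J := by
          show Subgroup.inclusion _ _ ∈ LH
          have h1 : (⟨x, hxH⟩ : H) ∈ LH := Subgroup.subset_normalClosure rfl
          have h2 := mul_mem h1 (Subgroup.Normal.conj_mem ‹LH.Normal› _ (inv_mem h1)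
            (⟨k, Subgroup.mem_sup_left hk⟩ : H))
          convert h2 using 1
          apply Subtype.ext
          show x * k * x⁻¹ * k⁻¹ = x * (k * x⁻¹ * k⁻¹)
          group
        have h3 : x * k * x⁻¹ * k⁻¹ ∈ R := ⟨_, hJ hmem, rfl⟩
        rw [hR, Subgroup.mem_bot, mul_inv_eq_one, mul_inv_eq_iff_eq_mul] at h3
        exact h3
      have hLC : L ≤ Subgroup.centralizer (N : Set G) := Subgroup.normalClosure_le_normal (by
        intro y hy
        rw [Set.mem_singleton_iff] at hy
        subst hy
        rw [SetLike.mem_coe, Subgroup.mem_centralizer_iff]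
        exact fun k hk => (hcomm k hk).symm)
      exact Group.isSolvable_of_comm fun u v => Subtype.ext (Subtype.ext
        ((Subgroup.mem_centralizer_iff.1 (hLC (v : L).2)) _ u.2))
    exact Group.isSolvable_of_ker_le_range (N.subgroupOf L).subtype (π.subgroupMap L) (by
      intro l hl
      have h1 : π (l : G) = 1 := congrArg Subtype.val hl
      rw [Subgroup.range_subtype]
      exact (QuotientGroup.eq_one_iff (l : G)).1 h1)

/-- **Kazarin's theorem**. -/
theorem isSolvable_normalClosure {p a : ℕ} (hp : p.Prime) (x : G)
    (hx : (Subgroup.centralizer ({x} : Set G)).index = p ^ a) :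
    Group.IsSolvable (Subgroup.normalClosure ({x} : Set G)) :=
  aux hp _ G rfl x a hx

/-- With trivial `p`-core the normal closure is abelian. -/
theorem comm_of_pCore_eq_bot {p a : ℕ} [Fact p.Prime] (hO : Cfsg.pCore p G = ⊥) (x : G)
    (hx : (Subgroup.centralizer ({x} : Set G)).index = p ^ a) :
    ∀ u ∈ Subgroup.normalClosure ({x} : Set G), ∀ v ∈ Subgroup.normalClosure ({x} : Set G),
      u * v = v * u := by
  set F := Cfsg.fittingSubgroup G with hFdef
  haveI : F.Normal := Subgroup.sSup_normal _ (fun _ h => h.1)
  haveI hFnil : Group.IsNilpotent F := CfsgLib.Solvable.isNilpotent_fittingSubgroup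
  have hpF : ¬ p ∣ Nat.card F := by
    intro hd
    obtain ⟨P⟩ := (inferInstance : Nonempty (Sylow p F))
    haveI hPn : (P : Subgroup F).Normal :=
      (Group.isNilpotent_of_finite_tfae.out 0 3 rfl rfl).mp hFnil p inferInstance P
    haveI : (P : Subgroup F).Characteristic := P.characteristic_of_normal hPn
    have hn : ((P : Subgroup F).map F.subtype).Normal := by
      refine ⟨fun r hr g => ?_⟩
      obtain ⟨s, hs, rfl⟩ := hr
      refine ⟨MulAut.conjNormal g s, ?_, rfl⟩
      have := (Subgroup.characteristic_iff_map_le (H := (P : Subgroup F))).1 inferInstance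
        (MulAut.conjNormal g)
      exact this ⟨s, hs, rfl⟩
    have := CfsgLib.Solvable.le_pCore (p := p) hn (P.2.map F.subtype)
    rw [hO, le_bot_iff, Subgroup.map_eq_bot_iff_of_injective _ F.subtype_injective] at this
    exact P.ne_bot_of_dvd_card hd this
  have hFC : F ≤ Subgroup.centralizer ({x} : Set G) := by
    rw [← Subgroup.relIndex_eq_one]
    refine Nat.eq_one_of_dvd_coprimes ?_ (hx ▸ relIndex_dvd _ F) (Subgroup.relIndex_dvd_card _ _)
    exact Nat.Coprime.pow_left a ((Nat.Prime.coprime_iff_not_dvd Fact.out).2 hpF)
  set L := Subgroup.normalClosure ({x} : Set G) with hL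
  haveI : L.Normal := Subgroup.normalClosure_normal
  have hLC : L ≤ Subgroup.centralizer (F : Set G) := Subgroup.normalClosure_le_normal (by
    intro y hy
    rw [Set.mem_singleton_iff] at hy
    subst hy
    rw [SetLike.mem_coe, Subgroup.mem_centralizer_iff]
    exact fun f hf => Subgroup.mem_centralizer_singleton_iff.1 (hFC hf))
  haveI : Group.IsSolvable L := isSolvable_normalClosure (Fact.out) x hx
  set FL := Cfsg.fittingSubgroup L
  have hFLF : FL.map L.subtype ≤ F := by
    haveI : FL.Normal := Subgroup.sSup_normal _ (fun _ h => h.1)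
    haveI : Group.IsNilpotent FL := CfsgLib.Solvable.isNilpotent_fittingSubgroup
    refine CfsgLib.Solvable.le_fittingSubgroup ?_ ?_
    · refine ⟨fun r hr g => ?_⟩
      obtain ⟨s, hs, rfl⟩ := hr
      refine ⟨MulAut.conjNormal g s, ?_, rfl⟩
      have hle : FL.map (MulAut.conjNormal g : MulAut L).toMonoidHom ≤ FL := by
        refine CfsgLib.Solvable.le_fittingSubgroup ((inferInstance : FL.Normal).map _ (MulAut.conjNormal g : MulAut L).surjective) ?_
        exact Group.nilpotent_of_surjective ((MulAut.conjNormal g : MulAut L).toMonoidHom.subgroupMap FL)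
          (MonoidHom.subgroupMap_surjective _ _)
      exact hle ⟨s, hs, rfl⟩
    · exact Group.nilpotent_of_surjective (L.subtype.subgroupMap FL) (MonoidHom.subgroupMap_surjective _ _)
  have hall : ∀ w : L, w ∈ Subgroup.centralizer (FL : Set L) := fun w => by
    rw [Subgroup.mem_centralizer_iff]
    intro t ht
    exact Subtype.ext ((Subgroup.mem_centralizer_iff.1 (hLC w.2)) _ (hFLF ⟨t, ht, rfl⟩))
  intro u hu v hv
  have hvF : (⟨v, hv⟩ : L) ∈ FL :=
    CfsgLib.Fitting.centralizer_fittingSubgroup_le_of_solvable (hall _)
  exact ((Subgroup.mem_centralizer_iff.1 (hLC hu)) v (hFLF ⟨_, hvF, rfl⟩)).symm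

end CfsgLib.Kazarin
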