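import Cfsg.Agent.Blocks.Principal
import Cfsg.Agent.Blocks.TraceFormula
import Cfsg.Agent.Blocks.Congr
import Cfsg.Agent.Char.Burnside
import Cfsg.Agent.Char.Kernel
import Cfsg.Agent.Char.Linear

/-!
Kazarin: an element with a conjugacy class of prime power size centralises every minimal normal
non-solvable subgroup that together with it generates the group.
-/

set_option autoImplicit false
set_option linter.style.haveILetI false
set_option linter.unusedSectionVars false

namespace CfsgLib.Kazarin

open Cfsg CfsgLib.Char CfsgLib.Block CfsgLib.Block.Chr Finset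
open scoped ComplexConjugate

universe u

variable {G : Type u} [Group G]

/-- A property closed under the group operations that holds on `N` and at `x` holds everywhere
when `N` and `x` generate. -/
theorem forall_of_gen {N : Subgroup G} {x : G} (hgen : N ⊔ Subgroup.zpowers x = ⊤)
    (S : Subgroup G) (hN : N ≤ S) (hx : x ∈ S) (g : G) : g ∈ S :=
  (hgen ▸ sup_le hN (Subgroup.zpowers_le.2 hx) : (⊤ : Subgroup G) ≤ S) (Subgroup.mem_top g)

variable [Finite G]

/-- An irreducible representation trivial on `N` has degree one when `G/N` is cyclic. -/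
theorem finrank_eq_one {N : Subgroup G} {x : G} (hgen : N ⊔ Subgroup.zpowers x = ⊤) {n : ℕ}
    (ρ : Representation ℂ G (Fin n → ℂ)) [ρ.IsIrreducible] (hN : ∀ k ∈ N, ρ k = 1) :
    Module.finrank ℂ (Fin n → ℂ) = 1 := by
  haveI := Fintype.ofFinite G
  let C : G → Subgroup G := fun g =>
    { carrier := {h | Commute (ρ g) (ρ h)}
      one_mem' := by show Commute _ _; rw [map_one]; exact Commute.one_right _
      mul_mem' := fun {a b} ha hb => by show Commute _ _; rw [map_mul]; exact ha.mul_right hb
      inv_mem' := fun {a} ha => by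
        show Commute _ _
        have ha' : Commute (ρ g) (ρ a) := ha
        have h1 : ρ a⁻¹ * ρ a = 1 := by rw [← map_mul, inv_mul_cancel, map_one]
        have h2 : ρ a * ρ a⁻¹ = 1 := by rw [← map_mul, mul_inv_cancel, map_one]
        unfold Commute SemiconjBy
        calc ρ g * ρ a⁻¹ = (ρ a⁻¹ * ρ a) * ρ g * ρ a⁻¹ := by rw [h1, one_mul]
          _ = ρ a⁻¹ * (ρ g * ρ a) * ρ a⁻¹ := by rw [mul_assoc (ρ a⁻¹), ← ha'.eq]
          _ = ρ a⁻¹ * ρ g := by rw [mul_assoc, mul_assoc, h2, mul_one] }
  have hCN : ∀ g, N ≤ C g := fun g k hk => by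
    show Commute _ _; rw [hN k hk]; exact Commute.one_right _
  have hx : ∀ g, Commute (ρ x) (ρ g) := forall_of_gen hgen (C x) (hCN x) (Commute.refl _)
  have hall : ∀ g h, Commute (ρ g) (ρ h) := fun g =>
    forall_of_gen hgen (C g) (hCN g) (hx g).symm
  have hnorm : ∀ g, ‖ρ.character g‖ = (Module.finrank ℂ (Fin n → ℂ) : ℝ) := fun g =>
    (norm_character_eq_iff ρ g).2 ⟨_, eq_smul_one_of_commute ρ (ρ g) fun h => ((hall g h).eq).symm⟩
  have h1 := (isIrreducible_iff_classInner_self ρ).1 inferInstance
  have h2 : ∀ g, ρ.character g * conj (ρ.character g) =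
      ((Module.finrank ℂ (Fin n → ℂ) : ℂ)) ^ 2 := fun g => by
    rw [Complex.mul_conj', hnorm g]; push_cast; ring
  rw [classInner_def] at h1
  simp only [h2, Finset.sum_const, Finset.card_univ, nsmul_eq_mul, ← Nat.card_eq_fintype_card] at h1
  rw [← mul_assoc, inv_mul_cancel₀ (by exact_mod_cast Nat.card_pos.ne'), one_mul] at h1
  have h3 : Module.finrank ℂ (Fin n → ℂ) ^ 2 = 1 := by exact_mod_cast h1
  exact (pow_eq_one_iff.1 h3).resolve_right two_ne_zero

/-- Congruence to one is inherited by powers. -/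
theorem pow_cong_one {q : ℕ} {M : Ideal AlgInt} (hM : IsPModular q M) {z : ℂ}
    (hz : MemLocalRing M z) (h : MemLocalIdeal M (z - 1)) (k : ℕ) :
    MemLocalIdeal M (z ^ k - 1) := by
  haveI := isPrime_of_isPModular hM
  induction k with
  | zero => simpa using memLocalIdeal_zero (M := M)
  | succ k ih =>
    rw [show z ^ (k + 1) - 1 = z * (z ^ k - 1) + (z - 1) by ring]
    exact memLocalIdeal_add (memLocalIdeal_mul_left hz ih) h

/-- A root of unity congruent to one has `q`-power order. -/
theorem pow_eq_one_of_cong {q : ℕ} {M : Ideal AlgInt} (hM : IsPModular q M) {z : ℂ} {i m : ℕ}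
    (hm : ¬ q ∣ m) (hz : z ^ (q ^ i * m) = 1) (h : MemLocalIdeal M (z - 1)) : z ^ q ^ i = 1 := by
  haveI := isPrime_of_isPModular hM
  by_contra hw
  have hint : IsIntegral ℤ z := by
    refine IsIntegral.of_pow (Nat.pos_of_ne_zero ?_) (by rw [hz]; exact isIntegral_one)
    intro h0
    rcases Nat.mul_eq_zero.1 h0 with h1 | h1
    · exact hM.1.ne_zero (eq_zero_of_pow_eq_zero h1)
    · exact hm (h1 ▸ dvd_zero q)
  have hzR := memLocalRing_of_isIntegral (M := M) hint
  have hsum : ∑ j ∈ range m, (z ^ q ^ i) ^ j = 0 := by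
    rw [geom_sum_eq hw, ← pow_mul, hz, sub_self, zero_div]
  apply hm
  rw [← memLocalIdeal_natCast_iff hM]
  have h2 : MemLocalIdeal M (∑ j ∈ range m, ((z ^ q ^ i) ^ j - 1)) :=
    memLocalIdeal_sum fun j _ => by rw [← pow_mul]; exact pow_cong_one hM hzR h _
  rw [Finset.sum_sub_distrib, hsum, zero_sub] at h2
  simpa using memLocalIdeal_neg h2

/-- **Kazarin's lemma**, generated case. -/
theorem commute_of_generates (N : Subgroup G) [N.Normal] (hN : ¬ Group.IsSolvable N)
    (hmin : ∀ K : Subgroup G, K.Normal → K ≤ N → K = ⊥ ∨ K = N) (x : G)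
    (hgen : N ⊔ Subgroup.zpowers x = ⊤) {p a : ℕ} (hp : p.Prime)
    (hx : (Subgroup.centralizer ({x} : Set G)).index = p ^ a) :
    ∀ k ∈ N, x * k = k * x := by
  classical
  haveI := Fintype.ofFinite G
  haveI : Fintype (IrrCharacter G) := irrFintype
  by_contra hcon
  obtain ⟨q, hq, hqp, hqN⟩ : ∃ q, q.Prime ∧ q ≠ p ∧ q ∣ Nat.card N := by
    by_contra! hc
    apply hN
    haveI := Fact.mk hp
    have hP : IsPGroup p N := IsPGroup.of_card (n := (Nat.card N).primeFactorsList.length)
      (Nat.eq_prime_pow_of_unique_prime_dvd Nat.card_pos.ne' fun {q} hq hqd => by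
        by_contra hne; exact hc q hq hne hqd)
    haveI := hP.isNilpotent
    infer_instance
  haveI := Fact.mk hq
  obtain ⟨y, hy⟩ := exists_prime_orderOf_dvd_card' q hqN
  obtain ⟨M, hM⟩ := exists_isPModular hq
  haveI := isPrime_of_isPModular hM
  have hqpa : ¬ q ∣ p ^ a := fun h =>
    hqp ((Nat.prime_dvd_prime_iff_eq hq hp).1 (hq.dvd_of_dvd_pow h))
  set B := principalBlock M G with hBdef
  have horth : ∑ χ ∈ univ.filter (· ∈ B), (χ : G → ℂ) 1 * conj ((χ : G → ℂ) y) = 0 :=
    weak_orth hM (isIntClass_blockCoeff isPBlock_principalBlock)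
      (by rw [orderOf_one]; exact hq.not_dvd_one) (by rw [Subgroup.orderOf_coe, hy])
  let T : IrrCharacter G → Prop := fun χ => ∀ k ∈ N, (χ : G → ℂ) k = (χ : G → ℂ) 1
  have hmemB : ∀ χ : IrrCharacter G, χ ∈ B → ∀ g : G,
      MemLocalIdeal M (centralChar (fun _ : G => (1 : ℂ)) g - centralChar (χ : G → ℂ) g) :=
    fun χ h => h
  -- non-trivial characters of the block have degree divisible by `p`
  have hdiv : ∀ χ : IrrCharacter G, χ ∈ B → ¬ T χ → p ∣ charDegree (χ : G → ℂ) := by
    intro χ hχB hχT
    by_contra hpd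
    obtain ⟨m, ρ, hρ, hρχ⟩ := χ.2
    haveI := hρ
    have hdeg : charDegree (χ : G → ℂ) = Module.finrank ℂ (Fin m → ℂ) := by
      have h1 := (irr_one χ).1
      rw [← hρχ, ρ.char_one] at h1
      rw [← hρχ]
      exact_mod_cast h1.symm
    have hcop : Nat.Coprime (Module.finrank ℂ (Fin m → ℂ))
        (Subgroup.centralizer ({x} : Set G)).index := by
      rw [hx, ← hdeg]; exact ((hp.coprime_iff_not_dvd.2 hpd).symm).pow_right a
    rcases char_eq_zero_or_norm_eq ρ x hcop with h0 | h0
    · have h1 := hmemB χ hχB x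
      rw [centralChar, centralChar, ← hρχ, h0, hx, mul_zero, zero_div, sub_zero, mul_one,
        div_one] at h1
      exact hqpa ((memLocalIdeal_natCast_iff hM).1 h1)
    · obtain ⟨ω, hω⟩ := (norm_character_eq_iff ρ x).1 h0
      let K : Subgroup G := N ⊓ ρ.asGroupHom.ker
      rcases hmin K inferInstance inf_le_left with hK | hK
      · apply hcon
        intro k hk
        have hmem : x * k * x⁻¹ * k⁻¹ ∈ K := by
          refine Subgroup.mem_inf.2 ⟨mul_mem (Subgroup.Normal.conj_mem ‹_› k hk x) (inv_mem hk), ?_⟩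
          have hc : ρ (x * k) = ρ (k * x) := by
            rw [map_mul, map_mul, hω]
            ext v; simp
          refine MonoidHom.mem_ker.2 (Units.ext ?_)
          rw [Representation.asGroupHom_apply, Units.val_one]
          calc ρ (x * k * x⁻¹ * k⁻¹) = ρ (x * k) * ρ (x⁻¹ * k⁻¹) := by
                rw [← map_mul, mul_assoc (x * k)]
            _ = ρ (k * x) * ρ (x⁻¹ * k⁻¹) := by rw [hc]
            _ = 1 := by rw [← map_mul, mul_assoc k, mul_inv_cancel_left, mul_inv_cancel, map_one]
        rw [hK, Subgroup.mem_bot, mul_inv_eq_one, mul_inv_eq_iff_eq_mul] at hmem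
        exact hmem
      · apply hχT
        intro k hk
        have hk' : k ∈ ρ.asGroupHom.ker := ((hK.symm ▸ hk : k ∈ K)).2
        have h1 : ρ k = 1 := by
          have := congrArg Units.val (MonoidHom.mem_ker.1 hk')
          rwa [Representation.asGroupHom_apply, Units.val_one] at this
        rw [← hρχ]
        simp [Representation.character, h1]
  -- trivial characters are linear
  have hlin : ∀ χ : IrrCharacter G, T χ → (χ : G → ℂ) 1 = 1 := by
    intro χ hχT
    obtain ⟨m, ρ, hρ, hρχ⟩ := χ.2
    haveI := hρ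
    have h1 := finrank_eq_one hgen ρ fun k hk => by
      have h2 := hχT k hk
      rw [← hρχ, ρ.char_one] at h2
      exact (character_eq_iff ρ k).1 h2
    rw [← hρχ, ρ.char_one, h1, Nat.cast_one]
  have hcard : (p : ℕ) ∣ ((univ.filter (· ∈ B)).filter T).card := by
    rw [← Finset.sum_filter_add_sum_filter_not _ T] at horth
    have h1 : ∑ χ ∈ (univ.filter (· ∈ B)).filter T, (χ : G → ℂ) 1 * conj ((χ : G → ℂ) y) =
        (((univ.filter (· ∈ B)).filter T).card : ℂ) := by
      rw [Finset.card_eq_sum_ones, Nat.cast_sum]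
      refine Finset.sum_congr rfl fun χ hχ => ?_
      have hT := (Finset.mem_filter.1 hχ).2
      rw [hlin χ hT, hT y y.2, hlin χ hT, map_one, mul_one, Nat.cast_one]
    have h2 : IsIntegral ℤ ((∑ χ ∈ (univ.filter (· ∈ B)).filter (fun χ => ¬ T χ),
        (χ : G → ℂ) 1 * conj ((χ : G → ℂ) y)) / (p : ℂ)) := by
      rw [Finset.sum_div]
      refine IsIntegral.sum _ fun χ hχ => ?_
      simp only [Finset.mem_filter, Finset.mem_univ, true_and] at hχ
      obtain ⟨d, hd⟩ := hdiv χ hχ.1 hχ.2
      rw [(irr_one χ).1, hd, Nat.cast_mul, mul_assoc,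
        mul_div_cancel_left₀ _ (by exact_mod_cast hp.ne_zero)]
      refine (isIntegral_algebraMap (x := (d : ℤ))).mul ?_
      rw [conj_irr]
      exact IsCharacter.isIntegral (isCharacter_irr χ) _
    rw [h1] at horth
    rw [eq_neg_of_add_eq_zero_right horth] at h2
    exact dvd_of_isIntegral_div hp.ne_zero (by simpa [neg_div] using h2.neg)
  -- the trivial characters in the block form a `q`-group
  let L : Subgroup (G →* ℂˣ) :=
    { carrier := {lam | (∀ k ∈ N, lam k = 1) ∧
        ∀ g, MemLocalIdeal M (((Subgroup.centralizer ({g} : Set G)).index : ℂ) * (lam g : ℂ) -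
          ((Subgroup.centralizer ({g} : Set G)).index : ℂ))}
      one_mem' := ⟨fun _ _ => rfl, fun g => by simpa using memLocalIdeal_zero (M := M)⟩
      mul_mem' := fun {l m} hl hm => by
        refine ⟨fun k hk => by rw [MonoidHom.mul_apply, hl.1 k hk, hm.1 k hk, mul_one], fun g => ?_⟩
        have hmR : MemLocalRing M (m g : ℂ) := memLocalRing_of_isIntegral
          (IsCharacter.isIntegral (IsIrrCharacter.isCharacter (isIrrCharacter_ofHom m)) g)
        have e : ((Subgroup.centralizer ({g} : Set G)).index : ℂ) * (((l * m) g : ℂˣ) : ℂ) -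
            ((Subgroup.centralizer ({g} : Set G)).index : ℂ) =
            (((Subgroup.centralizer ({g} : Set G)).index : ℂ) * (l g : ℂ) -
              ((Subgroup.centralizer ({g} : Set G)).index : ℂ)) * (m g : ℂ) +
            (((Subgroup.centralizer ({g} : Set G)).index : ℂ) * (m g : ℂ) -
              ((Subgroup.centralizer ({g} : Set G)).index : ℂ)) := by
          rw [MonoidHom.mul_apply, Units.val_mul]; ring
        rw [e]
        exact memLocalIdeal_add (memLocalIdeal_mul_right (hl.2 g) hmR) (hm.2 g)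
      inv_mem' := fun {l} hl => by
        refine ⟨fun k hk => by rw [MonoidHom.inv_apply, hl.1 k hk, inv_one], fun g => ?_⟩
        have hR : MemLocalRing M ((l⁻¹ g : ℂˣ) : ℂ) := memLocalRing_of_isIntegral
          (IsCharacter.isIntegral (IsIrrCharacter.isCharacter (isIrrCharacter_ofHom l⁻¹)) g)
        have e : ((Subgroup.centralizer ({g} : Set G)).index : ℂ) * ((l⁻¹ g : ℂˣ) : ℂ) -
            ((Subgroup.centralizer ({g} : Set G)).index : ℂ) =
            -((((Subgroup.centralizer ({g} : Set G)).index : ℂ) * (l g : ℂ) -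
              ((Subgroup.centralizer ({g} : Set G)).index : ℂ)) * ((l⁻¹ g : ℂˣ) : ℂ)) := by
          rw [MonoidHom.inv_apply, sub_mul, mul_assoc, ← Units.val_mul, mul_inv_cancel,
            Units.val_one]
          ring
        rw [e]
        exact memLocalIdeal_neg (memLocalIdeal_mul_right (hl.2 g) hR) }
  have hLB : ∀ l : G →* ℂˣ, l ∈ L ↔
      ((linearCharEquiv l).1 ∈ B ∧ T (linearCharEquiv l).1) := by
    intro l
    have hval : ∀ g, ((linearCharEquiv l).1 : G → ℂ) g = (l g : ℂ) := fun g => rfl
    constructor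
    · rintro ⟨h1, h2⟩
      refine ⟨fun g => ?_, fun k hk => by rw [hval, hval, h1 k hk, map_one]⟩
      rw [centralChar, centralChar, hval, hval, map_one, Units.val_one]
      simpa using memLocalIdeal_neg (h2 g)
    · rintro ⟨h1, h2⟩
      refine ⟨fun k hk => Units.ext (by
        have := h2 k hk
        rwa [hval, hval, map_one] at this), fun g => ?_⟩
      have := hmemB _ h1 g
      rw [centralChar, centralChar, hval, hval, map_one, Units.val_one] at this
      simpa using memLocalIdeal_neg this
  have hLcard : Nat.card L = ((univ.filter (· ∈ B)).filter T).card := by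
    rw [← Nat.card_eq_finsetCard]
    refine Nat.card_congr (Equiv.ofBijective
      (fun l => ⟨(linearCharEquiv l.1).1, by simpa using (hLB l.1).1 l.2⟩) ⟨fun l m h => ?_, ?_⟩)
    · exact Subtype.ext (linearCharEquiv.injective (Subtype.ext (congrArg (fun t => t.1) h)))
    · rintro ⟨χ, hχ⟩
      simp only [Finset.mem_filter, Finset.mem_univ, true_and] at hχ
      have e : linearCharEquiv (linearCharEquiv.symm ⟨χ, hlin χ hχ.2⟩) = ⟨χ, hlin χ hχ.2⟩ :=
        Equiv.apply_symm_apply _ _
      refine ⟨⟨linearCharEquiv.symm ⟨χ, hlin χ hχ.2⟩, (hLB _).2 (by rw [e]; exact hχ)⟩, ?_⟩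
      apply Subtype.ext
      show (linearCharEquiv (linearCharEquiv.symm ⟨χ, hlin χ hχ.2⟩)).1 = χ
      rw [e]
  haveI : Finite (G →* ℂˣ) := Finite.of_equiv _ linearCharEquiv.symm
  have hLq : IsPGroup q L := by
    rintro ⟨l, hl1, hl2⟩
    obtain ⟨i, m, hm, hGm⟩ := Nat.exists_eq_pow_mul_and_not_dvd
      (Nat.card_pos (α := G)).ne' q hq.ne_one
    refine ⟨i, Subtype.ext ?_⟩
    have hz : (l x : ℂ) ^ (q ^ i * m) = 1 := by
      rw [← hGm, ← Units.val_pow_eq_pow_val, ← map_pow, pow_card_eq_one', map_one, Units.val_one]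
    have hcong : MemLocalIdeal M ((l x : ℂ) - 1) := by
      have h3 := hl2 x
      rw [hx, ← mul_sub_one] at h3
      have hu : ¬ MemLocalIdeal M ((p ^ a : ℕ) : ℂ) := fun h =>
        hqpa ((memLocalIdeal_natCast_iff hM).1 h)
      have hinv := memLocalRing_inv (natCast_mem_localRing (M := M) (p ^ a)) hu
      have h4 := memLocalIdeal_mul_left hinv h3
      rwa [← mul_assoc, inv_mul_cancel₀ (ne_zero_of_not_memLocalIdeal hu), one_mul] at h4
    have h5 := pow_eq_one_of_cong hM hm hz hcong
    show l ^ q ^ i = 1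
    refine MonoidHom.ext fun g => ?_
    exact forall_of_gen hgen (MonoidHom.eqLocus (l ^ q ^ i) 1)
      (fun k hk => by
        show (l ^ q ^ i) k = 1
        rw [MonoidHom.pow_apply, hl1 k hk, one_pow])
      (by
        show (l ^ q ^ i) x = 1
        rw [MonoidHom.pow_apply]
        exact Units.ext (by rw [Units.val_pow_eq_pow_val, h5, Units.val_one])) g
  obtain ⟨j, hj⟩ := hLq.exists_card_eq
  rw [← hLcard, hj] at hcard
  exact hqp ((Nat.prime_dvd_prime_iff_eq hp hq).1 (hp.dvd_of_dvd_pow hcard)).symm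

end CfsgLib.Kazarin
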